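import Cfsg.Agent.ZipperClosure.Iterated
import Mathlib.GroupTheory.Schreier
import Mathlib.GroupTheory.OrderOfElement
import Mathlib.GroupTheory.QuotientGroup.Basic

/-!
# Groups generated by twists of an involutory automorphism

If `G = [G, α]` with `α ^ 2 = 1`, the elements of odd order inverted by `α` generate `G`; their
number bounds the order of `G`.
-/

set_option autoImplicit false
set_option linter.unusedSectionVars false

namespace CfsgLib.InvertedOdd

open Subgroup CfsgLib.ZipperClosure

variable {G : Type*} [Group G] [Finite G]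

/-- The elements of odd order inverted by `α`. -/
abbrev Inv (α : MulAut G) : Type _ := {g : G // Odd (orderOf g) ∧ α g = g⁻¹}

/-- `α` is an involutory automorphism with `[G, α] = G`. -/
structure Hyp (α : MulAut G) : Prop where
  invol : ∀ g, α (α g) = g
  gen : closure (Set.range (twist α)) = ⊤

variable {α : MulAut G}

theorem twist_inverted (hi : ∀ g, α (α g) = g) (c : G) : α (twist α c) = (twist α c)⁻¹ := by
  simp [twist, hi]

theorem twist_of_inverted {y : G} (h : α y = y⁻¹) : twist α y = y ^ 2 := by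
  simp [twist, h, sq]

/-- Iterated twists are powers of the first twist. -/
theorem twist_iterate (hi : ∀ g, α (α g) = g) (c : G) : ∀ k : ℕ,
    (twist α)^[k + 1] c = twist α c ^ 2 ^ k := by
  intro k
  induction k with
  | zero => simp
  | succ k ih =>
    rw [Function.iterate_succ_apply', ih, twist_of_inverted
      (by rw [map_pow, twist_inverted hi, inv_pow]), ← pow_mul, pow_succ]

/-- Powers `2 ^ k` kill the 2-part of an order. -/
theorem odd_orderOf_pow_two (y : G) : Odd (orderOf (y ^ 2 ^ Nat.card G)) := by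
  obtain ⟨k, m, hm, hkm⟩ := Nat.exists_eq_two_pow_mul_odd (orderOf_pos y).ne'
  have hk : k ≤ Nat.card G := by
    have h1 : 2 ^ k ≤ orderOf y := hkm ▸ Nat.le_mul_of_pos_right _ hm.pos
    have h2 := Nat.lt_pow_self (n := k) one_lt_two
    have h3 : orderOf y ≤ Nat.card G := orderOf_le_card
    omega
  refine hm.of_dvd_nat (orderOf_dvd_of_pow_eq_one ?_)
  rw [← pow_mul]
  refine orderOf_dvd_iff_pow_eq_one.1 ?_
  rw [hkm]
  exact mul_dvd_mul_right (pow_dvd_pow 2 hk) m

theorem closure_inv_eq_top (h : Hyp α) :
    closure (Set.range (fun x : Inv α => (x : G))) = ⊤ := by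
  rw [eq_top_iff, ← iterated_twist_generate _ G rfl α h.gen (Nat.card G + 1), closure_le]
  rintro _ ⟨c, rfl⟩
  refine subset_closure ⟨⟨_, ?_, ?_⟩, rfl⟩
  · rw [← Function.iterate_succ_apply, twist_iterate h.invol]; exact odd_orderOf_pow_two _
  · rw [← Function.iterate_succ_apply, twist_iterate h.invol, map_pow, twist_inverted h.invol,
      inv_pow]

/-- An element commuting with every inverted element is central. -/
theorem mem_center_of_forall_commute (h : Hyp α) {c : G}
    (hc : ∀ x : Inv α, c * x * c⁻¹ = x) : c ∈ center G := by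
  have hle : closure (Set.range (fun x : Inv α => (x : G))) ≤ centralizer ({c} : Set G) := by
    rw [closure_le]
    rintro _ ⟨x, rfl⟩
    exact mem_centralizer_singleton_iff.2 (mul_inv_eq_iff_eq_mul.1 (hc x)).symm
  rw [closure_inv_eq_top h] at hle
  exact mem_center_iff.2 fun g => mem_centralizer_singleton_iff.1 (hle (mem_top g))

/-- Elements fixed modulo the centre permute the inverted elements. -/
def conjInv {c : G} (hc : twist α c ∈ center G) (x : Inv α) : Inv α :=
  ⟨c * x * c⁻¹, by
    refine ⟨(orderOf_injective (MulAut.conj c).toMonoidHom (MulAut.conj c).injective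
      (x : G)).symm ▸ x.2.1, ?_⟩
    obtain ⟨z, hz, hzc⟩ : ∃ z ∈ center G, α c = z * c :=
      ⟨(twist α c)⁻¹, inv_mem hc, by simp [twist]⟩
    rw [map_mul, map_mul, map_inv, x.2.2, hzc]
    have hcomm : ∀ g, g * z = z * g := mem_center_iff.1 hz
    calc z * c * (x : G)⁻¹ * (z * c)⁻¹ = z * (c * (x : G)⁻¹ * c⁻¹) * z⁻¹ := by group
      _ = (c * x * c⁻¹)⁻¹ := by rw [← hcomm, mul_inv_cancel_right]; group⟩

theorem conjInv_injective {c : G} (hc : twist α c ∈ center G) :
    Function.Injective (conjInv hc) := fun x y hxy => by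
  have h : c * (x : G) * c⁻¹ = c * y * c⁻¹ := congrArg Subtype.val hxy
  exact Subtype.ext (by simpa using h)

/-- Elements of an equivariant image are images. -/
theorem exists_lift {Q : Type*} [Group Q] [Finite Q] {β : MulAut Q} (π : G →* Q)
    (hπ : Function.Surjective π) (hc : ∀ g, π (α g) = β (π g)) (hi : ∀ g, α (α g) = g)
    (v : Inv β) : ∃ x : Inv α, π x = v := by
  obtain ⟨v, hodd, hv⟩ := v
  -- a square root
  obtain ⟨j, hj⟩ := exists_pow_eq_self_of_coprime (x := v) (n := 2)
    ((Nat.coprime_two_left).2 hodd)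
  obtain ⟨c, hc'⟩ := hπ (v ^ j)
  have hy : π (twist α c) = v := by
    show π (c * (α c)⁻¹) = v
    rw [map_mul, map_inv, hc, hc', map_pow, hv, inv_pow, inv_inv]
    rw [← pow_add, ← two_mul, pow_mul, hj]
  obtain ⟨i, hi'⟩ := exists_pow_eq_self_of_coprime (x := v) (n := 2 ^ Nat.card G)
    ((Nat.coprime_pow_left_iff (Nat.card_pos) _ _).2 ((Nat.coprime_two_left).2 hodd))
  refine ⟨⟨(twist α c ^ 2 ^ Nat.card G) ^ i, ?_, ?_⟩, ?_⟩
  · exact (odd_orderOf_pow_two _).of_dvd_nat (orderOf_pow_dvd i)
  · rw [map_pow, map_pow, twist_inverted hi, inv_pow, inv_pow]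
  · show π _ = v
    rw [map_pow, map_pow, hy, hi']

/-- A normal invariant subgroup that does not identify inverted elements is central. -/
theorem le_center_of_injective {Q : Type*} [Group Q] (h : Hyp α) (π : G →* Q)
    (hM : ∀ g ∈ π.ker, α g ∈ π.ker)
    (hinj : ∀ x y : Inv α, π x = π y → x = y) : π.ker ≤ center G := by
  have hfix : ∀ c ∈ π.ker, twist α c ∈ center G → c ∈ center G := fun c hc hz => by
    refine mem_center_of_forall_commute h fun x => ?_
    refine congrArg Subtype.val (hinj (conjInv hz x) x ?_)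
    show π (c * x * c⁻¹) = π x
    rw [map_mul, map_mul, map_inv, MonoidHom.mem_ker.1 hc, one_mul, inv_one, mul_one]
  have htw : ∀ c ∈ π.ker, twist α c ∈ π.ker := fun c hc => mul_mem hc (inv_mem (hM c hc))
  -- twists in the kernel are 2-elements
  have key : ∀ (k : ℕ) (c : G), c ∈ π.ker → (twist α)^[k] c ∈ center G → c ∈ center G := by
    intro k
    induction k with
    | zero => exact fun c _ hc => hc
    | succ k ih =>
      intro c hc hk
      rw [Function.iterate_succ_apply] at hk
      exact hfix c hc (ih _ (htw c hc) hk)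
  intro c hc
  refine key (Nat.card G + 1) c hc ?_
  let x : Inv α := ⟨(twist α)^[Nat.card G + 1] c,
    by rw [twist_iterate h.invol]; exact odd_orderOf_pow_two _,
    by rw [twist_iterate h.invol, map_pow, twist_inverted h.invol, inv_pow]⟩
  have hx : x = ⟨1, by simp, by simp⟩ := hinj _ _ (by
    show π ((twist α)^[Nat.card G + 1] c) = π 1
    rw [twist_iterate h.invol, map_pow, MonoidHom.mem_ker.1 (htw c hc), one_pow, map_one])
  have hx1 : (twist α)^[Nat.card G + 1] c = 1 := congrArg Subtype.val hx
  rw [hx1]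
  exact one_mem _

/-- The fixed points modulo the centre. -/
theorem card_fixed_le (h : Hyp α) {Q : Type*} [Group Q] [Finite Q] {β : MulAut Q} (π : G →* Q)
    (hπ : Function.Surjective π) (hker : π.ker = center G) (hc : ∀ g, π (α g) = β (π g)) :
    Nat.card {q : Q // β q = q} ≤ (Nat.card (Inv α)).factorial := by
  choose s hs using hπ
  have hmem : ∀ q : {q : Q // β q = q}, twist α (s q.1) ∈ center G := fun q => by
    rw [← hker, MonoidHom.mem_ker]
    show π (s q.1 * (α (s q.1))⁻¹) = 1
    rw [map_mul, map_inv, hc, hs, q.2, mul_inv_cancel]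
  rw [← Nat.card_perm]
  refine Nat.card_le_card_of_injective
    (fun q => Equiv.ofBijective (conjInv (hmem q))
      (Finite.injective_iff_bijective.1 (conjInv_injective _))) fun q r hqr => ?_
  have hz : (s r.1)⁻¹ * s q.1 ∈ center G := mem_center_of_forall_commute h fun x => by
    have hx : s q.1 * (x : G) * (s q.1)⁻¹ = s r.1 * x * (s r.1)⁻¹ :=
      congrArg Subtype.val (DFunLike.congr_fun hqr x)
    calc (s r.1)⁻¹ * s q.1 * x * ((s r.1)⁻¹ * s q.1)⁻¹
        = (s r.1)⁻¹ * (s q.1 * x * (s q.1)⁻¹) * s r.1 := by group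
      _ = x := by rw [hx]; group
  rw [← hker, MonoidHom.mem_ker, map_mul, map_inv, hs, hs, inv_mul_eq_one] at hz
  exact Subtype.ext hz.symm

end CfsgLib.InvertedOdd
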