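import Cfsg.Agent.InvertedOdd.Basic
import Cfsg.Agent.Invol.BrauerFowler

/-!
# The bound on `G` by the number of inverted elements of odd order
-/

set_option autoImplicit false
set_option linter.unusedSectionVars false
set_option linter.style.haveILetI false

namespace CfsgLib.InvertedOdd

open Subgroup CfsgLib.ZipperClosure
open scoped commutatorElement

section Quotient

variable {G : Type} [Group G] [Finite G]

/-- The automorphism induced on a quotient. -/
noncomputable def quotAut (α : MulAut G) (M : Subgroup G) [M.Normal] (hM : ∀ g ∈ M, α g ∈ M) :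
    MulAut (G ⧸ M) :=
  QuotientGroup.congr M M α (eq_of_le_of_card_ge (map_le_iff_le_comap.2 hM)
    (card_map_of_injective α.injective).ge)

theorem quotAut_mk (α : MulAut G) (M : Subgroup G) [M.Normal] (hM : ∀ g ∈ M, α g ∈ M) (g : G) :
    quotAut α M hM (QuotientGroup.mk' M g) = QuotientGroup.mk' M (α g) :=
  rfl

theorem Hyp.map {α : MulAut G} (h : Hyp α) {Q : Type} [Group Q] [Finite Q] {β : MulAut Q}
    (π : G →* Q) (hπ : Function.Surjective π) (hc : ∀ g, π (α g) = β (π g)) : Hyp β := by
  refine ⟨fun q => ?_, ?_⟩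
  · obtain ⟨g, rfl⟩ := hπ q
    rw [← hc, ← hc, h.invol]
  · rw [eq_top_iff, ← map_top_of_surjective π hπ, ← h.gen, MonoidHom.map_closure]
    refine closure_mono ?_
    rintro _ ⟨_, ⟨c, rfl⟩, rfl⟩
    exact ⟨π c, by simp [twist, hc]⟩

theorem card_inv_le {α : MulAut G} (h : Hyp α) {Q : Type} [Group Q] [Finite Q] {β : MulAut Q}
    (π : G →* Q) (hπ : Function.Surjective π) (hc : ∀ g, π (α g) = β (π g)) :
    Nat.card (Inv β) ≤ Nat.card (Inv α) := by
  choose s hs using exists_lift π hπ hc h.invol
  exact Nat.card_le_card_of_injective s fun a b hab => Subtype.ext (by rw [← hs a, ← hs b, hab])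

theorem card_inv_lt {α : MulAut G} (h : Hyp α) {Q : Type} [Group Q] [Finite Q] {β : MulAut Q}
    (π : G →* Q) (hπ : Function.Surjective π) (hc : ∀ g, π (α g) = β (π g))
    (hker : ¬ π.ker ≤ center G) : Nat.card (Inv β) < Nat.card (Inv α) := by
  choose s hs using exists_lift π hπ hc h.invol
  have hinj : Function.Injective s := fun a b hab => Subtype.ext (by rw [← hs a, ← hs b, hab])
  refine lt_of_le_of_ne (Nat.card_le_card_of_injective s hinj) fun he => hker ?_
  have hsurj := (hinj.bijective_of_nat_card_le he.ge).2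
  refine le_center_of_injective h π (fun g hg => ?_) fun x y hxy => ?_
  · rw [MonoidHom.mem_ker] at hg ⊢
    rw [hc, hg, map_one]
  · obtain ⟨a, rfl⟩ := hsurj x
    obtain ⟨b, rfl⟩ := hsurj y
    rw [hs, hs] at hxy
    exact congrArg s (Subtype.ext hxy)

/-- An abelian group of this kind consists of inverted elements. -/
theorem card_le_of_comm {α : MulAut G} (h : Hyp α) (hab : ∀ a b : G, a * b = b * a) :
    Nat.card G ≤ Nat.card (Inv α) := by
  let S : Subgroup G :=
    { carrier := {g | Odd (orderOf g) ∧ α g = g⁻¹}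
      mul_mem' := fun {a b} ha hb =>
        ⟨(ha.1.mul hb.1).of_dvd_nat (Commute.orderOf_mul_dvd_mul_orderOf (hab a b)),
          by rw [map_mul, ha.2, hb.2, mul_inv_rev, hab]⟩
      one_mem' := ⟨by simp, by simp⟩
      inv_mem' := fun {a} ha => ⟨by rw [orderOf_inv]; exact ha.1, by rw [map_inv, ha.2]⟩ }
  have htop : ∀ g, g ∈ S := fun g => by
    have hle : closure (Set.range (fun x : Inv α => (x : G))) ≤ S := by
      rw [closure_le]; rintro _ ⟨x, rfl⟩; exact x.2
    exact hle (closure_inv_eq_top h ▸ mem_top g)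
  exact Nat.card_le_card_of_injective (fun g => (⟨g, htop g⟩ : Inv α))
    fun a b hab' => congrArg Subtype.val hab'

theorem card_commutatorSet_le : Nat.card (commutatorSet G) ≤ (center G).index * (center G).index := by
  classical
  rw [Subgroup.index, ← Nat.card_prod]
  refine Nat.card_le_card_of_surjective (fun p : (G ⧸ center G) × (G ⧸ center G) =>
    (⟨⁅p.1.out, p.2.out⁆, commutator_mem_commutatorSet _ _⟩ : commutatorSet G)) fun c => ?_
  obtain ⟨_, a, b, rfl⟩ := c
  refine ⟨((a : G ⧸ center G), (b : G ⧸ center G)), Subtype.ext ?_⟩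
  obtain ⟨⟨z, hz⟩, ha⟩ := QuotientGroup.mk_out_eq_mul (center G) a
  obtain ⟨⟨w, hw⟩, hb⟩ := QuotientGroup.mk_out_eq_mul (center G) b
  simp only [ha, hb, commutatorElement_def]
  have h1 : ∀ g, g * z = z * g := mem_center_iff.1 hz
  have h2 : ∀ g, g * w = w * g := mem_center_iff.1 hw
  calc a * z * (b * w) * (a * z)⁻¹ * (b * w)⁻¹
      = a * (z * (b * w) * z⁻¹) * a⁻¹ * (w⁻¹ * b⁻¹) := by group
    _ = a * b * (w * a⁻¹ * w⁻¹) * b⁻¹ := by rw [← h1, mul_inv_cancel_right]; group
    _ = a * b * a⁻¹ * b⁻¹ := by rw [← h2, mul_inv_cancel_right]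

end Quotient

section Minimal

variable {G : Type} [Group G] [Finite G] {α : MulAut G}

/-- A map with fibres inside translates of a small set. -/
theorem card_le_mul {A : Type} [Finite A] {B : Type} [Finite B] {C : Type} [Finite C] (f : A → B)
    (g : ∀ a r : A, f r = f a → C) (hg : ∀ a b r (ha : f r = f a) (hb : f r = f b),
      g a r ha = g b r hb → a = b) : Nat.card A ≤ Nat.card B * Nat.card C := by
  classical
  rw [← Nat.card_prod]
  let rep : B → A → A := fun b a => if h : ∃ r, f r = b then h.choose else a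
  have hrep : ∀ a, f (rep (f a) a) = f a := fun a => by
    have hex : ∃ r, f r = f a := ⟨a, rfl⟩
    simp only [rep, dif_pos hex]
    exact hex.choose_spec
  refine Nat.card_le_card_of_injective (fun a => (f a, g a _ (hrep a))) fun a b hab => ?_
  simp only [Prod.mk.injEq] at hab
  have hr : rep (f a) a = rep (f b) b := by
    have ha : ∃ r, f r = f a := ⟨a, rfl⟩
    have hb : ∃ r, f r = f b := ⟨b, rfl⟩
    simp only [rep, dif_pos ha, dif_pos hb, hab.1]
  have key : ∀ (r r' : A) (h1 : f r = f a) (h2 : f r' = f b), r = r' →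
      g a r h1 = g b r' h2 → a = b := by
    rintro r r' h1 h2 rfl h
    exact hg a b r h1 h2 h
  exact key _ _ _ _ hr hab.2

/-- An element with a large centralizer in an invariant subgroup. -/
theorem exists_large_centralizer (hi : ∀ g, α (α g) = g) (M : Subgroup G)
    (hM : ∀ g ∈ M, α g ∈ M) (hne : M ≠ ⊥) {c : ℕ} (hc : Nat.card {g : G // α g = g} ≤ c) :
    ∃ g ∈ M, g ≠ 1 ∧
      Nat.card M ≤ 2 * c ^ 2 * Nat.card ↥(M ⊓ centralizer ({g} : Set G)) := by
  classical
  haveI := Fintype.ofFinite M
  by_contra hcon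
  simp only [not_exists, not_and, not_le] at hcon
  let T := {a : M // ∃ b : M, twist α (b : G) = a}
  have hM' : Nat.card M ≤ Nat.card T * c := by
    refine (card_le_mul (C := {g : G // α g = g})
      (fun b : M => (⟨⟨twist α (b : G), mul_mem b.2 (inv_mem (hM _ b.2))⟩, b, rfl⟩ : T))
      (fun a r h => ⟨(r : G)⁻¹ * a, ?_⟩) fun a b r _ _ h => ?_).trans (Nat.mul_le_mul_left _ hc)
    · have h' : (r : G) * (α r)⁻¹ = a * (α a)⁻¹ := congrArg (fun t : T => ((t : M) : G)) h
      rw [map_mul, map_inv]
      calc (α r)⁻¹ * α a = (r : G)⁻¹ * ((r : G) * (α r)⁻¹) * α a := by group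
        _ = _ := by rw [h']; group
    · exact Subtype.ext (mul_left_cancel (congrArg Subtype.val h))
  let fib : M → Type := fun g => {a : T // ∃ b : T, (a : M) = g * (b : M)}
  have hsq : Nat.card T * Nat.card T ≤ ∑ g : M, Nat.card (fib g) := by
    rw [← Nat.card_prod, ← Nat.card_sigma]
    refine Nat.card_le_card_of_injective (fun p : T × T =>
      (⟨(p.1 : M) * (p.2 : M)⁻¹, p.1, p.2, (inv_mul_cancel_right _ _).symm⟩ :
        Σ g : M, fib g)) fun p q hpq => ?_
    have h1 : (p.1 : M) * (p.2 : M)⁻¹ = (q.1 : M) * (q.2 : M)⁻¹ := congrArg Sigma.fst hpq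
    have h2 : p.1 = q.1 := congrArg (fun x : Σ g : M, fib g => x.2.1) hpq
    rw [h2, mul_right_inj, inv_inj] at h1
    exact Prod.ext h2 (Subtype.ext h1)
  have hfib : ∀ g : M, Nat.card (fib g) ≤ Nat.card ↥(M ⊓ centralizer ({(g : G)} : Set G)) := by
    intro g
    rcases isEmpty_or_nonempty (fib g) with he | ⟨⟨a₀, h₀⟩⟩
    · simp
    have hconj : ∀ a : fib g, ((a.1 : M) : G)⁻¹ * g * ((a.1 : M) : G) = (α g)⁻¹ := by
      rintro ⟨a, b, hab⟩
      obtain ⟨x, hx⟩ := a.2
      obtain ⟨y, hy⟩ := b.2
      show ((a : M) : G)⁻¹ * g * ((a : M) : G) = (α g)⁻¹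
      have hA : α ((a : M) : G) = ((a : M) : G)⁻¹ := by rw [← hx]; exact twist_inverted hi _
      have hB : α ((b : M) : G) = ((b : M) : G)⁻¹ := by rw [← hy]; exact twist_inverted hi _
      have hab' : ((a : M) : G) = (g : G) * ((b : M) : G) := by rw [hab]; rfl
      rw [hab', map_mul, hB, mul_inv_rev] at hA
      rw [hab', mul_inv_rev]
      calc ((b : M) : G)⁻¹ * (g : G)⁻¹ * g * ((g : G) * ((b : M) : G))
          = ((b : M) : G)⁻¹ * g * ((b : M) : G) := by group
        _ = _ := ?_
      have hA' : α (g : G) = ((b : M) : G)⁻¹ * (g : G)⁻¹ * ((b : M) : G) := by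
        rw [← hA, inv_mul_cancel_right]
      rw [hA']
      group
    refine Nat.card_le_card_of_injective (fun a => (⟨((a.1 : M) : G) * ((a₀ : M) : G)⁻¹,
      M.mul_mem (a.1 : M).2 (M.inv_mem (a₀ : M).2), ?_⟩ :
        ↥(M ⊓ centralizer ({(g : G)} : Set G)))) fun a b h => ?_
    · refine mem_centralizer_singleton_iff.2 ?_
      have h1 := hconj a
      have h2 := hconj ⟨a₀, h₀⟩
      rw [← h2] at h1
      calc ((a.1 : M) : G) * ((a₀ : M) : G)⁻¹ * g
          = ((a.1 : M) : G) * (((a₀ : M) : G)⁻¹ * g * ((a₀ : M) : G)) * ((a₀ : M) : G)⁻¹ := by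
            group
        _ = g * (((a.1 : M) : G) * ((a₀ : M) : G)⁻¹) := by rw [← h1]; group
    · exact Subtype.ext (Subtype.ext (Subtype.ext
        (mul_right_cancel (congrArg Subtype.val h))))
  have hone : Nat.card (fib 1) ≤ Nat.card T :=
    Nat.card_le_card_of_injective Subtype.val Subtype.val_injective
  obtain ⟨⟨g₁, hg₁⟩, hg₁1⟩ := (nontrivial_iff_exists_ne (1 : M)).1
    ((nontrivial_iff_ne_bot M).2 hne)
  -- sum estimate
  have hc1 : 1 ≤ c := le_trans (Nat.one_le_iff_ne_zero.2 (by
    haveI : Nonempty {g : G // α g = g} := ⟨⟨1, map_one α⟩⟩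
    exact Nat.card_pos.ne')) hc
  have hsum : 2 * c ^ 2 * (∑ g : M, Nat.card (fib g)) ≤
      2 * c ^ 2 * Nat.card T + Nat.card M * Nat.card M := by
    rw [← Finset.add_sum_erase _ _ (Finset.mem_univ (1 : M)), mul_add, Finset.mul_sum]
    refine add_le_add (Nat.mul_le_mul_left _ hone) ?_
    refine (Finset.sum_le_card_nsmul _ _ (Nat.card M) fun g hg => ?_).trans ?_
    · refine le_trans (Nat.mul_le_mul_left _ (hfib g)) (hcon g g.2 fun h => ?_).le
      exact Finset.ne_of_mem_erase hg (Subtype.ext h)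
    · rw [smul_eq_mul]
      exact Nat.mul_le_mul_right _ ((Finset.card_le_univ _).trans
        (Nat.card_eq_fintype_card (α := M)).ge)
  have hT : Nat.card T ≤ 2 := by
    by_contra hT
    have h1 : Nat.card M * Nat.card M ≤ (Nat.card T * c) * (Nat.card T * c) :=
      Nat.mul_le_mul hM' hM'
    have h2 := (Nat.mul_le_mul_left (2 * c ^ 2) hsq).trans hsum
    have h3 : 0 < c ^ 2 := by positivity
    have h4 : Nat.card T * Nat.card T ≤ 2 * Nat.card T := by
      refine Nat.le_of_mul_le_mul_left ?_ h3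
      calc c ^ 2 * (Nat.card T * Nat.card T) ≤ 2 * c ^ 2 * Nat.card T := by nlinarith
        _ = c ^ 2 * (2 * Nat.card T) := by ring
    exact hT (Nat.le_of_mul_le_mul_right h4 (by omega))
  have h5 := hcon g₁ hg₁ (fun h => hg₁1 (Subtype.ext h))
  have h6 : 0 < Nat.card ↥(M ⊓ centralizer ({g₁} : Set G)) := Nat.card_pos
  have h7 : c ≤ c ^ 2 := Nat.le_self_pow two_ne_zero c
  nlinarith

/-- A minimal invariant normal subgroup is small. -/
theorem minimal_bound (hi : ∀ g, α (α g) = g) (M : Subgroup G) [M.Normal]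
    (hM : ∀ g ∈ M, α g ∈ M) (hne : M ≠ ⊥)
    (hmin : ∀ L : Subgroup G, L.Normal → (∀ g ∈ L, α g ∈ L) → L ≤ M → L = ⊥ ∨ L = M)
    {c n B : ℕ} (hc : Nat.card {g : G // α g = g} ≤ c) (hn : Nat.card (Inv α) ≤ n)
    (hB : Nat.card G ≤ B * Nat.card M) :
    Nat.card M ≤ c * (c + n) + (2 * (B * (2 * c ^ 2))).factorial := by
  classical
  let C : Subgroup G := M ⊓ centralizer (M : Set G)
  have hCn : C.Normal := inferInstance
  have hCi : ∀ g ∈ C, α g ∈ C := fun g hg => ⟨hM g hg.1, mem_centralizer_iff.2 fun m hm => by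
    have h := congrArg α (mem_centralizer_iff.1 hg.2 (α m) (hM m hm))
    rwa [map_mul, map_mul, hi] at h⟩
  rcases hmin C hCn hCi inf_le_left with hC | hC
  · -- nonabelian
    obtain ⟨g, hgM, hg1, hg⟩ := exists_large_centralizer hi M hM hne hc
    let X := {x : G // IsConj g x ∨ IsConj (α g) x}
    have hcl : Nat.card {x : G // IsConj g x} ≤ B * (2 * c ^ 2) := by
      have h1 := CfsgLib.BrauerFowler.card_class_mul g
      have h2 : Nat.card ↥(M ⊓ centralizer ({g} : Set G)) ≤
          Nat.card (centralizer ({g} : Set G)) :=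
        Nat.card_le_card_of_injective _ (inclusion_injective inf_le_right)
      refine Nat.le_of_mul_le_mul_right ?_ (Nat.card_pos (α := centralizer ({g} : Set G)))
      rw [h1]
      calc Nat.card G ≤ B * Nat.card M := hB
        _ ≤ B * (2 * c ^ 2 * Nat.card (centralizer ({g} : Set G))) :=
          Nat.mul_le_mul_left _ (hg.trans (Nat.mul_le_mul_left _ h2))
        _ = _ := by ring
    have hX : Nat.card X ≤ 2 * (B * (2 * c ^ 2)) := by
      have hcl' : Nat.card {x : G // IsConj (α g) x} ≤ B * (2 * c ^ 2) := by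
        refine le_trans ?_ hcl
        refine Nat.card_le_card_of_injective (fun x => (⟨α x.1, ?_⟩ : {x : G // IsConj g x}))
          fun a b h => Subtype.ext (α.injective (congrArg Subtype.val h :))
        have h := α.toMonoidHom.map_isConj x.2
        simpa [hi] using h
      rw [two_mul]
      refine le_trans ?_ (add_le_add hcl hcl')
      rw [← Nat.card_sum]
      refine Nat.card_le_card_of_injective (fun x : X => if h : IsConj g x.1 then
        Sum.inl (⟨x.1, h⟩ : {x : G // IsConj g x}) else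
        Sum.inr (⟨x.1, x.2.resolve_left h⟩ : {x : G // IsConj (α g) x})) fun a b h => ?_
      simp only at h
      split_ifs at h <;> simp only [Sum.inl.injEq, Sum.inr.injEq, Subtype.mk.injEq] at h <;>
        exact Subtype.ext h
    have hmemX : ∀ (a : G) (x : X), IsConj g (a * x.1 * a⁻¹) ∨ IsConj (α g) (a * x.1 * a⁻¹) :=
      fun a x => x.2.imp (fun h => h.trans (isConj_iff.2 ⟨a, rfl⟩))
        (fun h => h.trans (isConj_iff.2 ⟨a, rfl⟩))
    let W := closure (Set.range (fun x : X => x.1))
    have hWn : W.Normal := by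
      refine ⟨fun w hw a => ?_⟩
      have h : W.map (MulAut.conj a).toMonoidHom ≤ W := by
        rw [MonoidHom.map_closure, closure_le]
        rintro _ ⟨_, ⟨x, rfl⟩, rfl⟩
        exact subset_closure ⟨⟨_, hmemX a x⟩, rfl⟩
      exact h ⟨w, hw, rfl⟩
    have hWi : ∀ w ∈ W, α w ∈ W := fun w hw => by
      have h : W.map α.toMonoidHom ≤ W := by
        rw [MonoidHom.map_closure, closure_le]
        rintro _ ⟨_, ⟨x, rfl⟩, rfl⟩
        refine subset_closure ⟨⟨α x.1, ?_⟩, rfl⟩
        rcases x.2 with h | h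
        · exact Or.inr (α.toMonoidHom.map_isConj h)
        · exact Or.inl (by simpa [hi] using α.toMonoidHom.map_isConj h)
      exact h ⟨w, hw, rfl⟩
    have hWM : W ≤ M := by
      rw [closure_le]
      rintro _ ⟨⟨x, hx⟩, rfl⟩
      rcases hx with h | h <;> obtain ⟨a, rfl⟩ := isConj_iff.1 h
      · exact (inferInstance : M.Normal).conj_mem _ hgM a
      · exact (inferInstance : M.Normal).conj_mem _ (hM _ hgM) a
    have hWeq : W = M := (hmin W hWn hWi hWM).resolve_left fun h => hg1 (by
      have hmem : g ∈ W := subset_closure ⟨⟨g, Or.inl (IsConj.refl g)⟩, rfl⟩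
      rwa [h, mem_bot] at hmem)
    refine le_trans ?_ (le_add_left (Nat.factorial_le hX))
    rw [← Nat.card_perm]
    let perm : M → Equiv.Perm X := fun a =>
      { toFun := fun x => ⟨(a : G) * x.1 * (a : G)⁻¹, hmemX _ x⟩
        invFun := fun x => ⟨(a : G)⁻¹ * x.1 * (a : G), by
          simpa using hmemX (a : G)⁻¹ x⟩
        left_inv := fun x => Subtype.ext (by simp [mul_assoc])
        right_inv := fun x => Subtype.ext (by simp [mul_assoc]) }
    refine Nat.card_le_card_of_injective perm fun a b hab => ?_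
    have hab' : ((b : G)⁻¹ * a) ∈ C := by
      refine ⟨M.mul_mem (M.inv_mem b.2) a.2, ?_⟩
      have hle : M ≤ centralizer ({(b : G)⁻¹ * a} : Set G) := by
        refine hWeq.ge.trans ?_
        rw [closure_le]
        rintro _ ⟨x, rfl⟩
        have hx : (a : G) * x.1 * (a : G)⁻¹ = (b : G) * x.1 * (b : G)⁻¹ :=
          congrArg (fun y : X => y.1) (DFunLike.congr_fun hab x)
        refine mem_centralizer_singleton_iff.2 ?_
        calc x.1 * ((b : G)⁻¹ * a)
            = (b : G)⁻¹ * ((b : G) * x.1 * (b : G)⁻¹) * a := by group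
          _ = _ := by rw [← hx]; group
      exact mem_centralizer_iff.2 fun m hm => mem_centralizer_singleton_iff.1 (hle hm)
    rw [hC, mem_bot, inv_mul_eq_one] at hab'
    exact Subtype.ext hab'.symm
  · -- abelian
    have hab : ∀ a ∈ M, ∀ b ∈ M, a * b = b * a := fun a ha b hb =>
      ((mem_centralizer_iff.1 (hC.ge ha).2) b hb).symm
    let K : Subgroup G :=
      { carrier := {a | a ∈ M ∧ a * a = 1}
        mul_mem' := fun {a b} ha hb => ⟨mul_mem ha.1 hb.1, by
          calc a * b * (a * b) = a * (b * a) * b := by group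
            _ = a * a * (b * b) := by rw [← hab a ha.1 b hb.1]; group
            _ = 1 := by rw [ha.2, hb.2, mul_one]⟩
        one_mem' := ⟨one_mem M, one_mul 1⟩
        inv_mem' := fun {a} ha => ⟨inv_mem ha.1, by rw [← mul_inv_rev, ha.2, inv_one]⟩ }
    have hKn : K.Normal := ⟨fun a ha x => ⟨(inferInstance : M.Normal).conj_mem _ ha.1 x, by
      calc x * a * x⁻¹ * (x * a * x⁻¹) = x * (a * a) * x⁻¹ := by group
        _ = 1 := by rw [ha.2]; group⟩⟩
    have hKi : ∀ a ∈ K, α a ∈ K := fun a ha => ⟨hM a ha.1, by rw [← map_mul, ha.2, map_one]⟩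
    have hw : ∀ w ∈ M, α w = w⁻¹ → α w = w ∨ (Odd (orderOf w) ∧ α w = w⁻¹) := fun w hwM hwi => by
      rcases hmin K hKn hKi (fun a ha => ha.1) with h | h
      · refine Or.inr ⟨Nat.not_even_iff_odd.1 fun he => ?_, hwi⟩
        have h2 := CfsgLib.Invol.orderOf_pow_half (isOfFinOrder_of_finite w) he
        have h3 : w ^ (orderOf w / 2) ∈ K :=
          ⟨pow_mem hwM _, CfsgLib.Invol.mul_self_eq_one h2⟩
        rw [h, mem_bot] at h3
        exact CfsgLib.Invol.ne_one h2 h3
      · exact Or.inl (hwi.trans (inv_eq_of_mul_eq_one_right (h.ge hwM).2))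
    refine le_trans ?_ (le_add_right (Nat.mul_le_mul hc (add_le_add hc hn)))
    rw [← Nat.card_sum]
    refine card_le_mul (C := {g : G // α g = g} ⊕ Inv α)
      (fun v : M => (⟨(v : G) * α v, by
        rw [map_mul, hi, hab _ (hM _ v.2) _ v.2]⟩ : {g : G // α g = g}))
      (fun a r h => if hfix : α ((r : G)⁻¹ * a) = (r : G)⁻¹ * a then Sum.inl ⟨_, hfix⟩ else
        Sum.inr ⟨(r : G)⁻¹ * a,
          (hw _ (mul_mem (inv_mem r.2) a.2) ?_).resolve_left hfix⟩) fun a b r h1 h2 h => ?_
    · have h' : (r : G) * α r = a * α a := congrArg Subtype.val h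
      rw [map_mul, map_inv, mul_inv_rev, inv_inv]
      calc (α r)⁻¹ * α a = (α r)⁻¹ * (r : G)⁻¹ * ((r : G) * α a) := by group
        _ = ((r : G) * α r)⁻¹ * ((r : G) * α a) := by rw [mul_inv_rev]
        _ = (α a)⁻¹ * (a : G)⁻¹ * ((r : G) * α a) := by rw [h', mul_inv_rev]
        _ = (α a)⁻¹ * ((a : G)⁻¹ * r) * α a := by group
        _ = (a : G)⁻¹ * r := by
          rw [mul_assoc, hab _ (mul_mem (inv_mem a.2) r.2) _ (hM _ a.2), inv_mul_cancel_left]
    · split_ifs at h <;> simp only [Sum.inl.injEq, Sum.inr.injEq, Subtype.mk.injEq,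
        mul_right_inj] at h <;> exact Subtype.ext h

end Minimal

section Main

/-- The order is bounded by a function of the number of inverted elements of odd order. -/
theorem exists_bound : ∀ n : ℕ, ∃ B : ℕ, ∀ (G : Type) [Group G] [Finite G] (α : MulAut G),
    Hyp α → Nat.card (Inv α) ≤ n → Nat.card G ≤ B := by
  intro n
  induction n with
  | zero =>
    refine ⟨0, fun G _ _ α _ h => ?_⟩
    haveI : Nonempty (Inv α) := ⟨⟨1, by simp, by simp⟩⟩
    have := Nat.card_pos (α := Inv α)
    omega
  | succ n ih =>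
    obtain ⟨B₀, hB₀⟩ := ih
    set c := (n + 1).factorial with hcdef
    set BQ := 1 + B₀ * (c * (c + (n + 1)) + (2 * (B₀ * (2 * c ^ 2))).factorial) with hBQ
    refine ⟨BQ ^ (BQ * (BQ * BQ) + 1) * (n + 1), fun G _ _ α h hn => ?_⟩
    classical
    have hZi : ∀ g ∈ center G, α g ∈ center G := fun g hg => mem_center_iff.2 fun x => by
      obtain ⟨y, rfl⟩ := α.surjective x
      rw [← map_mul, ← map_mul, mem_center_iff.1 hg]
    set β := quotAut α (center G) hZi
    set π := QuotientGroup.mk' (center G)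
    have hπ : Function.Surjective π := QuotientGroup.mk'_surjective _
    have hcomm : ∀ g, π (α g) = β (π g) := fun g => (quotAut_mk α _ hZi g).symm
    have hker : π.ker = center G := QuotientGroup.ker_mk' _
    have hQ : Hyp β := h.map π hπ hcomm
    have hindex : Nat.card (G ⧸ center G) ≤ BQ := by
      by_cases hne : (⊤ : Subgroup (G ⧸ center G)) = ⊥
      · have : Nat.card (G ⧸ center G) = 1 := by
          rw [← Subgroup.card_top, hne, Subgroup.card_bot]
        omega
      haveI := Fintype.ofFinite (Subgroup (G ⧸ center G))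
      obtain ⟨M, hMmem, hMmin⟩ := Finset.exists_min_image
        (Finset.univ.filter fun L : Subgroup (G ⧸ center G) =>
          L.Normal ∧ (∀ g ∈ L, β g ∈ L) ∧ L ≠ ⊥) (fun L => Nat.card L)
        ⟨⊤, by simp [hne, Subgroup.normal_top]⟩
      rw [Finset.mem_filter] at hMmem
      obtain ⟨-, hMn, hMi, hMne⟩ := hMmem
      have hmin : ∀ L : Subgroup (G ⧸ center G), L.Normal → (∀ g ∈ L, β g ∈ L) → L ≤ M →
          L = ⊥ ∨ L = M := fun L hL hLi hle => by
        by_cases hL0 : L = ⊥
        · exact Or.inl hL0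
        exact Or.inr (eq_of_le_of_card_ge hle (hMmin L (Finset.mem_filter.2
          ⟨Finset.mem_univ _, hL, hLi, hL0⟩)))
      set γ := quotAut β M hMi
      set p := (QuotientGroup.mk' M).comp π
      have hp : Function.Surjective p := (QuotientGroup.mk'_surjective _).comp hπ
      have hpc : ∀ g, p (α g) = γ (p g) := fun g => by
        show QuotientGroup.mk' M (π (α g)) = γ (QuotientGroup.mk' M (π g))
        exact (congrArg _ (hcomm g)).trans (quotAut_mk β M hMi (π g)).symm
      have hlt := card_inv_lt h p hp hpc fun hle => hMne ((eq_bot_iff_forall M).2 fun q hq => by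
        obtain ⟨g, rfl⟩ := hπ q
        have hg : g ∈ p.ker := MonoidHom.mem_ker.2 ((QuotientGroup.eq_one_iff (π g)).2 hq)
        exact MonoidHom.mem_ker.1 (hker.ge (hle hg)))
      have hB := hB₀ _ γ (h.map p hp hpc) (by omega)
      have hcard : Nat.card (G ⧸ center G) ≤ B₀ * Nat.card M := by
        rw [Subgroup.card_eq_card_quotient_mul_card_subgroup M]
        exact Nat.mul_le_mul_right _ hB
      have hMb := minimal_bound hQ.invol M hMi hMne hmin
        ((card_fixed_le h π hπ hker hcomm).trans (Nat.factorial_le hn))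
        ((card_inv_le h π hπ hcomm).trans hn) hcard
      calc Nat.card (G ⧸ center G) ≤ B₀ * Nat.card M := hcard
        _ ≤ B₀ * (c * (c + (n + 1)) + (2 * (B₀ * (2 * c ^ 2))).factorial) :=
          Nat.mul_le_mul_left _ hMb
        _ ≤ BQ := by omega
    rw [Subgroup.card_eq_card_quotient_mul_card_subgroup (commutator G), mul_comm]
    refine Nat.mul_le_mul ?_ ?_
    · have hdvd := card_commutator_dvd_index_center_pow G
      have hpos : 0 < (center G).index := Nat.pos_of_ne_zero index_ne_zero_of_finite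
      refine (Nat.le_of_dvd (pow_pos hpos _) hdvd).trans ?_
      refine (Nat.pow_le_pow_left hindex _).trans (Nat.pow_le_pow_right (by omega) ?_)
      exact Nat.add_le_add_right (Nat.mul_le_mul hindex
        (card_commutatorSet_le.trans (Nat.mul_le_mul hindex hindex))) 1
    · have hCi : ∀ g ∈ commutator G, α g ∈ commutator G := fun g hg => by
        have hle : (commutator G).map α.toMonoidHom ≤ commutator G := by
          rw [_root_.commutator_def, map_commutator]
          exact commutator_mono le_top le_top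
        exact hle ⟨g, hg, rfl⟩
      set δ := quotAut α (commutator G) hCi
      have hc' : ∀ g, QuotientGroup.mk' (commutator G) (α g) =
          δ (QuotientGroup.mk' (commutator G) g) := fun g => (quotAut_mk α _ hCi g).symm
      have hsur := QuotientGroup.mk'_surjective (commutator G)
      refine (card_le_of_comm (h.map _ hsur hc') fun a b => ?_).trans
        ((card_inv_le h _ hsur hc').trans hn)
      obtain ⟨a, rfl⟩ := hsur a
      obtain ⟨b, rfl⟩ := hsur b
      rw [← map_mul, ← map_mul]
      refine (QuotientGroup.eq).2 ?_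
      rw [_root_.commutator_def, show (a * b)⁻¹ * (b * a) = ⁅b⁻¹, a⁻¹⁆ by
        rw [commutatorElement_def]; group]
      exact commutator_mem_commutator (mem_top _) (mem_top _)

end Main

end CfsgLib.InvertedOdd
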